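import Cfsg.Agent.Lib.H14.SuzM.Cert.Data
import Cfsg.Agent.Lib.H12.J3M.MonoWide

set_option autoImplicit false
set_option maxRecDepth 100000

/-! # Word lists and lattice certificates of the monomial certificate (generated; all checks linear in the
number of words) -/

namespace Cfsg.Agent.Lib.H14.SuzM.Cert

open Cfsg.Agent.Lib.H17.CosetCert (BT WT)
open Cfsg.Agent.Lib.H17.MonoCert
open Cfsg.Agent.Lib.H12.J3M

/-- all relator words -/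
def relL : List (List ℕ) := (words.toList.filter (fun v => v.2)).map (fun v => v.1)

/-- the subgroup generator words -/
def subL : List (List ℕ) := [[0], [1], [2], [3], [4], [5]]

/-- the inverse pair words -/
def pairL : List (List ℕ) := [[0, 0], [1, 1], [2, 2], [3, 3], [4, 4], [5, 5], [6, 6]]

/-- the symbol relators -/
def symL : List (List ℕ) := [[2, 6, 2, 6], [3, 6, 3, 6], [4, 6, 4, 6], [0, 6, 5, 6, 5], [0, 1, 0, 1, 0, 6, 1, 0, 1, 0, 6, 1, 0, 1, 6], [0, 1, 0, 2, 1, 6, 1, 0, 1, 2, 1, 0, 1, 6, 1, 2, 0, 1, 6, 2], [6, 1, 2, 3, 2, 1, 0, 1, 6, 2, 3, 1, 2, 0, 1, 6, 3, 2, 1, 0, 1, 2, 3, 1, 2, 1], [0, 1, 5, 6, 1, 0, 1, 5, 6, 1, 5, 0, 1, 6]]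

/-- the other central relators -/
def cenL : List (List ℕ) := [[0, 6, 0, 6], [6, 1, 2, 3, 2, 1, 4, 3, 5, 6, 1, 2, 5, 1, 0, 1, 0, 5, 2, 1, 0, 1, 5, 2, 1, 6, 5, 3, 4, 1, 2, 3, 2, 1, 6, 4, 3, 2, 1, 0, 1, 2, 3, 4], [6, 1, 2, 3, 5, 1, 6, 2, 1, 5, 3, 2, 1, 6, 3, 2, 1, 5, 3, 2, 3, 1, 2, 3]]

/-- the unit vectors -/
def unitL : List (List ℤ) := [[(1 : ℤ), (0 : ℤ), (0 : ℤ), (0 : ℤ), (0 : ℤ), (0 : ℤ), (0 : ℤ), (0 : ℤ)], [(0 : ℤ), (1 : ℤ), (0 : ℤ), (0 : ℤ), (0 : ℤ), (0 : ℤ), (0 : ℤ), (0 : ℤ)], [(0 : ℤ), (0 : ℤ), (1 : ℤ), (0 : ℤ), (0 : ℤ), (0 : ℤ), (0 : ℤ), (0 : ℤ)], [(0 : ℤ), (0 : ℤ), (0 : ℤ), (1 : ℤ), (0 : ℤ), (0 : ℤ), (0 : ℤ), (0 : ℤ)], [(0 : ℤ), (0 : ℤ), (0 : ℤ), (0 : ℤ), (1 : ℤ), (0 : ℤ), (0 : ℤ), (0 : ℤ)], [(0 : ℤ), (0 : ℤ), (0 : ℤ), (0 : ℤ), (0 : ℤ), (1 : ℤ), (0 : ℤ), (0 : ℤ)], [(0 : ℤ), (0 : ℤ), (0 : ℤ), (0 : ℤ), (0 : ℤ), (0 : ℤ), (1 : ℤ), (0 : ℤ)], [(0 : ℤ), (0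 : ℤ), (0 : ℤ), (0 : ℤ), (0 : ℤ), (0 : ℤ), (0 : ℤ), (1 : ℤ)]]

/-- the exact relators: the relator words that are not pair, symbol or central words -/
def exactL : List (List ℕ) := relL.filter (fun w => !(decide (w ∈ pairL ++ (symL ++ cenL))))

theorem sub_chk : ∀ v ∈ words.toList, v.2 = false → v.1 ∈ subL := by
  decide +kernel

theorem words_mem : ∀ v ∈ words.toList, (v.2 = true → v.1 ∈ relL) ∧ (v.2 = false → v.1 ∈ subL) := by
  intro v hv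
  refine ⟨fun h => ?_, sub_chk v hv⟩
  exact List.mem_map.2 ⟨v, List.mem_filter.2 ⟨hv, by simpa using h⟩, rfl⟩

theorem rel_cases : ∀ w ∈ relL, w ∈ exactL ++ pairL ∨ w ∈ symL ++ cenL := by
  intro w hw
  by_cases h : w ∈ pairL ++ (symL ++ cenL)
  · rcases List.mem_append.1 h with h1 | h1
    · exact Or.inl (List.mem_append.2 (Or.inr h1))
    · exact Or.inr h1
  · refine Or.inl (List.mem_append.2 (Or.inl ?_))
    exact List.mem_filter.2 ⟨hw, by simpa using h⟩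

/-- a seed word has twist zero and is no symbol or central word, or it is a symbol with its unit vector -/
noncomputable def seedChk (w : ℕ) : Bool :=
  match WT.get words w with
  | some (wd, true) => (decide (Ev w = List.replicate 8 0) && !(decide (wd ∈ symL ++ cenL))) ||
      decide ((wd, Ev w) ∈ List.zip symL unitL)
  | _ => true

theorem seed_mem : ∀ w < 2989, seedChk w = true := by
  decide +kernel

/-- the pairs of words giving the relations, with the difference of their twists -/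
def relPairs : List (ℕ × ℕ × List ℤ) := [(13, 2992, [(.ofNat 0), (.ofNat 0), (.ofNat 1), (.ofNat 0), (.ofNat 0), (.ofNat 0), (.ofNat 0), (.ofNat 0)]), (57, 2993, [(.negSucc 0), (.ofNat 1), (.ofNat 0), (.ofNat 0), (.ofNat 0), (.ofNat 1), (.negSucc 0), (.ofNat 0)]), (6, 2994, [(.ofNat 2), (.ofNat 0), (.ofNat 0), (.ofNat 0), (.ofNat 0), (.ofNat 0), (.ofNat 0), (.ofNat 0)]), (7, 2995, [(.negSucc 0), (.negSucc 1), (.negSucc 1), (.ofNat 0), (.ofNat 0), (.ofNat 0), (.negSucc 1), (.ofNat 0)]), (2983, 2996, [(.ofNat 1), (.ofNat 0), (.negSucc 1), (.ofNat 0), (.ofNat 1), (.ofNat 0), (.ofNat 0), (.ofNat 0)]), (23, 2997, [(.ofNat 1), (.negSucc 0), (.ofNat 2), (.negSucc 0), (.ofNat 1), (.ofNat 0), (.ofNat 0), (.ofNat 0)]), (62, 2998, [(.negSucc 0), (.negSucc 0), (.ofNat 1), (.ofNat 2), (.negSucc 0), (.ofNat 0), (.ofNat 2), (.ofNat 0)]), (9, 2999, [(.negSucc 3), (.ofNat 3),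 (.ofNat 0), (.negSucc 3), (.negSucc 0), (.ofNat 0), (.ofNat 0), (.ofNat 3)]), (2981, 3000, [(.negSucc 3), (.negSucc 3), (.ofNat 0), (.ofNat 1), (.ofNat 0), (.ofNat 0), (.ofNat 3), (.ofNat 0)])]

/-- check of a relation pair: same relator word, twists differing by `v` -/
noncomputable def relChk (p : ℕ × ℕ × List ℤ) : Bool :=
  match WT.get words p.1, WT.get words p.2.1 with
  | some (wd1, true), some (wd2, true) => decide (wd1 = wd2) && decide (Ev p.2.1 = ladd (Ev p.1) p.2.2) &&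
      decide (p.1 < 3001) && decide (p.2.1 < 3001)
  | _, _ => false

theorem rel_chk : ∀ p ∈ relPairs, relChk p = true := by
  decide +kernel

/-- the relation vectors -/
def relV : List (List ℤ) := [[(.ofNat 0), (.ofNat 0), (.ofNat 1), (.ofNat 0), (.ofNat 0), (.ofNat 0), (.ofNat 0), (.ofNat 0)], [(.negSucc 0), (.ofNat 1), (.ofNat 0), (.ofNat 0), (.ofNat 0), (.ofNat 1), (.negSucc 0), (.ofNat 0)], [(.ofNat 2), (.ofNat 0), (.ofNat 0), (.ofNat 0), (.ofNat 0), (.ofNat 0), (.ofNat 0), (.ofNat 0)], [(.negSucc 0), (.negSucc 1), (.negSucc 1), (.ofNat 0), (.ofNat 0), (.ofNat 0), (.negSucc 1), (.ofNat 0)], [(.ofNat 1), (.ofNat 0), (.negSucc 1), (.ofNat 0), (.ofNat 1), (.ofNat 0), (.ofNat 0), (.ofNat 0)], [(.ofNat 1), (.negSucc 0), (.ofNat 2), (.negSucc 0), (.ofNat 1), (.ofNat 0), (.ofNat 0), (.ofNat 0)], [(.negSucc 0), (.negSucc 0), (.ofNat 1), (.ofNat 2), (.negSucc 0),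 (.ofNat 0), (.ofNat 2), (.ofNat 0)], [(.negSucc 3), (.ofNat 3), (.ofNat 0), (.negSucc 3), (.negSucc 0), (.ofNat 0), (.ofNat 0), (.ofNat 3)], [(.negSucc 3), (.negSucc 3), (.ofNat 0), (.ofNat 1), (.ofNat 0), (.ofNat 0), (.ofNat 3), (.ofNat 0)]]

theorem relV_eq : relPairs.map (fun p => p.2.2) = relV := by
  decide +kernel

theorem gen_cert : lsmul (.ofNat 3) [(.ofNat 0), (.ofNat 0), (.ofNat 0), (.ofNat 0), (.ofNat 0), (.ofNat 0), (.ofNat 0), (.ofNat 1)] = lcomb [(.ofNat 39), (.ofNat 0), (.ofNat 10), (.ofNat 1), (.ofNat 6), (.negSucc 9), (.negSucc 4), (.ofNat 1), (.ofNat 4)] relV := by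
  decide +kernel

theorem sym_cert0 : ladd [(.ofNat 1), (.ofNat 0), (.ofNat 0), (.ofNat 0), (.ofNat 0), (.ofNat 0), (.ofNat 0), (.ofNat 0)] (lsmul (.ofNat 0) [(.ofNat 0), (.ofNat 0), (.ofNat 0), (.ofNat 0), (.ofNat 0), (.ofNat 0), (.ofNat 0), (.ofNat 1)]) = lcomb [(.negSucc 209), (.ofNat 0), (.negSucc 57), (.ofNat 3), (.negSucc 17), (.ofNat 66), (.ofNat 48), (.ofNat 0), (.negSucc 29)] relV := by
  decide +kernel

theorem sym_cert1 : ladd [(.ofNat 0), (.ofNat 1), (.ofNat 0), (.ofNat 0), (.ofNat 0), (.ofNat 0), (.ofNat 0), (.ofNat 0)] (lsmul (.ofNat 0) [(.ofNat 0), (.ofNat 0), (.ofNat 0), (.ofNat 0), (.ofNat 0), (.ofNat 0), (.ofNat 0), (.ofNat 1)]) = lcomb [(.negSucc 292), (.ofNat 0), (.negSucc 81), (.ofNat 4), (.negSucc 24), (.ofNat 92), (.ofNat 67), (.ofNat 0), (.negSucc 41)] relV := by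
  decide +kernel

theorem sym_cert2 : ladd [(.ofNat 0), (.ofNat 0), (.ofNat 1), (.ofNat 0), (.ofNat 0), (.ofNat 0), (.ofNat 0), (.ofNat 0)] (lsmul (.ofNat 0) [(.ofNat 0), (.ofNat 0), (.ofNat 0), (.ofNat 0), (.ofNat 0), (.ofNat 0), (.ofNat 0), (.ofNat 1)]) = lcomb [(.ofNat 1), (.ofNat 0), (.ofNat 0), (.ofNat 0), (.ofNat 0), (.ofNat 0), (.ofNat 0), (.ofNat 0), (.ofNat 0)] relV := by
  decide +kernel

theorem sym_cert3 : ladd [(.ofNat 0), (.ofNat 0), (.ofNat 0), (.ofNat 1), (.ofNat 0), (.ofNat 0), (.ofNat 0), (.ofNat 0)] (lsmul (.ofNat 0) [(.ofNat 0), (.ofNat 0), (.ofNat 0), (.ofNat 0), (.ofNat 0), (.ofNat 0), (.ofNat 0), (.ofNat 1)]) = lcomb [(.ofNat 297), (.ofNat 0), (.ofNat 82), (.negSucc 3), (.ofNat 26), (.negSucc 92), (.negSucc 66), (.ofNat 0), (.ofNat 42)] relV := by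
  decide +kernel

theorem sym_cert4 : ladd [(.ofNat 0), (.ofNat 0), (.ofNat 0), (.ofNat 0), (.ofNat 1), (.ofNat 0), (.ofNat 0), (.ofNat 0)] (lsmul (.ofNat 0) [(.ofNat 0), (.ofNat 0), (.ofNat 0), (.ofNat 0), (.ofNat 0), (.ofNat 0), (.ofNat 0), (.ofNat 1)]) = lcomb [(.ofNat 212), (.ofNat 0), (.ofNat 58), (.negSucc 2), (.ofNat 19), (.negSucc 65), (.negSucc 47), (.ofNat 0), (.ofNat 30)] relV := by
  decide +kernel

theorem sym_cert5 : ladd [(.ofNat 0), (.ofNat 0), (.ofNat 0), (.ofNat 0), (.ofNat 0), (.ofNat 1), (.ofNat 0), (.ofNat 0)] (lsmul (.ofNat 0) [(.ofNat 0), (.ofNat 0), (.ofNat 0), (.ofNat 0), (.ofNat 0), (.ofNat 0), (.ofNat 0), (.ofNat 1)]) = lcomb [(.ofNat 60), (.ofNat 1), (.ofNat 18), (.negSucc 0), (.ofNat 5), (.negSucc 18), (.negSucc 13), (.ofNat 0), (.ofNat 9)] relV := by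
  decide +kernel

theorem sym_cert6 : ladd [(.ofNat 0), (.ofNat 0), (.ofNat 0), (.ofNat 0), (.ofNat 0), (.ofNat 0), (.ofNat 1), (.ofNat 0)] (lsmul (.ofNat 0) [(.ofNat 0), (.ofNat 0), (.ofNat 0), (.ofNat 0), (.ofNat 0), (.ofNat 0), (.ofNat 0), (.ofNat 1)]) = lcomb [(.negSucc 22), (.ofNat 0), (.negSucc 5), (.ofNat 0), (.negSucc 1), (.ofNat 7), (.ofNat 5), (.ofNat 0), (.negSucc 2)] relV := by
  decide +kernel

end Cfsg.Agent.Lib.H14.SuzM.Cert
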