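import Cfsg.Agent.Lib.H14.SuzM.Cert.StepsA
import Cfsg.Agent.Lib.H14.SuzM.Cert.StepsB
import Cfsg.Agent.Lib.H14.SuzM.Cert.Rows

set_option autoImplicit false
set_option maxRecDepth 100000

/-! # Running the monomial certificate (generated) -/

namespace Cfsg.Agent.Lib.H14.SuzM.Cert

open Cfsg.Agent.Lib.H17.CosetCert (BT WT)
open Cfsg.Agent.Lib.H17.MonoCert
open Cfsg.Agent.Lib.H12.J3M

variable {G Q A : Type*} [Group G] [MulAction G Q] [Group A] [MulAction A Q]
  [SMulCommClass G A Q] (tw : List ℤ → A) (γ : ℕ → G)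

theorem run (hfree : ∀ (α β : A) (q : Q), α • q = β • q → α = β)
    (htw : TwOK ladd (List.replicate 8 0) leq tw) (q0 : Q) (hw : WordsOK Ev tw γ q0 words 2989) :
    Inv F Ev tw γ q0 words 12474 1782 3001 := by
  have h0 := inv_zero F Ev tw γ q0 words 2989 hw
  have h1 := checkSteps_sound ladd (List.replicate 8 0) leq F Ev 7 65536 tw γ hfree htw q0 words 2989 hw steps0 0 1 2989 1500 505 2989 h0 chk0
  have h2 := checkSteps_sound ladd (List.replicate 8 0) leq F Ev 7 65536 tw γ hfree htw q0 words 2989 hw steps1 1500 505 2989 3000 1012 2989 h1 chk1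
  have h3 := checkSteps_sound ladd (List.replicate 8 0) leq F Ev 7 65536 tw γ hfree htw q0 words 2989 hw steps2 3000 1012 2989 4500 1504 2989 h2 chk2
  have h4 := checkSteps_sound ladd (List.replicate 8 0) leq F Ev 7 65536 tw γ hfree htw q0 words 2989 hw steps3 4500 1504 2989 6000 1782 2989 h3 chk3
  have h5 := checkSteps_sound ladd (List.replicate 8 0) leq F Ev 7 65536 tw γ hfree htw q0 words 2989 hw steps4 6000 1782 2989 7499 1782 2990 h4 chk4
  have h6 := checkSteps_sound ladd (List.replicate 8 0) leq F Ev 7 65536 tw γ hfree htw q0 words 2989 hw steps5 7499 1782 2990 8998 1782 2991 h5 chk5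
  have h7 := checkSteps_sound ladd (List.replicate 8 0) leq F Ev 7 65536 tw γ hfree htw q0 words 2989 hw steps6 8998 1782 2991 10497 1782 2992 h6 chk6
  have h8 := checkSteps_sound ladd (List.replicate 8 0) leq F Ev 7 65536 tw γ hfree htw q0 words 2989 hw steps7 10497 1782 2992 11997 1782 2992 h7 chk7
  have h9 := checkSteps_sound ladd (List.replicate 8 0) leq F Ev 7 65536 tw γ hfree htw q0 words 2989 hw steps8 11997 1782 2992 12474 1782 3001 h8 chk8
  exact h9

end Cfsg.Agent.Lib.H14.SuzM.Cert
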